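import Groth.Agent.EdP1Lib.P1
import Groth.Agent.S3554

/-!
# The family of translations of the projective line
-/

set_option autoImplicit false
set_option backward.isDefEq.respectTransparency false

noncomputable section

universe u

open CategoryTheory CategoryTheory.Limits AlgebraicGeometry MvPolynomial

namespace Groth.Agent.P1Grp

variable {R R' : Type u} [CommRing R] [CommRing R']

attribute [local instance] MvPolynomial.algebraMvPolynomial

/-- Change of coefficients. -/
def mapG (ρ : R →+* R') : CohB1.polyGrading 1 R →+*ᵍ CohB1.polyGrading 1 R' :=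
  { MvPolynomial.map (σ := Fin (1 + 1)) ρ with
    map_mem := fun {_ _} hx => MvPolynomial.IsHomogeneous.map hx _ }

theorem irrelevant_mapG (ρ : R →+* R') : HomogeneousIdeal.irrelevant (CohB1.polyGrading 1 R') ≤
    (HomogeneousIdeal.irrelevant (CohB1.polyGrading 1 R)).map (mapG ρ) := by
  intro x hx
  have hx0 : MvPolynomial.homogeneousComponent 0 x = 0 := by
    have := (HomogeneousIdeal.mem_irrelevant_iff _ x).mp hx
    exact (MvPolynomial.decomposition.decompose'_apply x 0).symm.trans this
  have hxs : x ∈ Ideal.span ((MvPolynomial.X (R := R')) '' (Set.univ : Set (Fin (1 + 1)))) := by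
    rw [MvPolynomial.mem_ideal_span_X_image]
    intro m hm
    by_contra! hcon
    have hm0 : m = 0 := Finsupp.ext fun i => hcon i trivial
    rw [MvPolynomial.homogeneousComponent_zero, MvPolynomial.C_eq_zero] at hx0
    exact MvPolynomial.mem_support_iff.mp hm (hm0 ▸ hx0)
  refine (Ideal.span_le.mpr ?_) hxs
  rintro - ⟨i, -, rfl⟩
  have hX : mapG ρ (MvPolynomial.X i) = MvPolynomial.X i := MvPolynomial.map_X _ _
  exact hX ▸ Ideal.mem_map_of_mem (mapG ρ) (HomogeneousIdeal.mem_irrelevant_of_mem (CohB1.polyGrading 1 R)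
    one_pos (MvPolynomial.isHomogeneous_X R i))

/-- The projection from the line over a bigger ring. -/
def projG (ρ : R →+* R') : CohB1.ProjSpace 1 R' ⟶ CohB1.ProjSpace 1 R := Proj.map (mapG ρ) (irrelevant_mapG ρ)

theorem isPullback_projG (ρ : R →+* R') :
    IsPullback (projG ρ) (CohB1.ProjSpace.toSpec 1 R') (CohB1.ProjSpace.toSpec 1 R)
      (Spec.map (CommRingCat.ofHom ρ)) := by
  letI : Algebra R R' := ρ.toAlgebra
  exact Groth.Agent.S3554.result (R := R') (R' := R) (CohB1.polyGrading 1 R) (CohB1.polyGrading 1 R') (mapG ρ)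
    (fun _ => rfl) (irrelevant_mapG ρ)

/-- The images of the coordinates under a translation. -/
def trV (t : R) : Fin 2 → MvPolynomial (Fin 2) R := ![X 0 + C t * X 1, X 1]

/-- A translation. -/
def tr (t : R) : CohB1.polyGrading 1 R →+*ᵍ CohB1.polyGrading 1 R :=
  { (MvPolynomial.aeval (trV t) : MvPolynomial (Fin 2) R →ₐ[R] MvPolynomial (Fin 2) R).toRingHom with
    map_mem := fun {i x} hx => by
      refine (mem_homogeneousSubmodule _ _).2 ?_
      have h := ((mem_homogeneousSubmodule _ _).1 hx).aeval (S := R) (n := 1) (trV t) (fun j => by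
        fin_cases j
        · exact (isHomogeneous_X _ _).add ((isHomogeneous_X _ _).C_mul _)
        · exact isHomogeneous_X _ _)
      rw [one_mul] at h
      exact h }

theorem tr_X0 (t : R) : tr t (X 0) = X 0 + C t * X 1 := MvPolynomial.aeval_X _ _

theorem tr_X1 (t : R) : tr t (X 1) = X 1 := MvPolynomial.aeval_X _ _

theorem tr_C (t r : R) : tr t (C r) = C r := MvPolynomial.aeval_C _ r

theorem tr_tr (s t : R) (p : MvPolynomial (Fin 2) R) : tr t (tr s p) = tr (s + t) p := by
  induction p using MvPolynomial.induction_on with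
  | C r => simp only [tr_C]
  | add p q hp hq => simp only [map_add, hp, hq]
  | mul_X p j hp =>
    simp only [map_mul, hp]
    congr 1
    fin_cases j
    · show tr t (tr s (X 0)) = tr (s + t) (X 0)
      simp only [tr_X0, tr_X1, map_add, map_mul, tr_C]
      ring
    · show tr t (tr s (X 1)) = tr (s + t) (X 1)
      simp only [tr_X1]

theorem tr_zero (p : MvPolynomial (Fin 2) R) : tr 0 p = p := by
  induction p using MvPolynomial.induction_on with
  | C r => exact tr_C _ r
  | add p q hp hq => simp only [map_add, hp, hq]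
  | mul_X p j hp =>
    simp only [map_mul, hp]
    congr 1
    fin_cases j
    · show tr 0 (X 0) = X 0
      simp [tr_X0]
    · exact tr_X1 _

theorem irrelevant_tr (t : R) : HomogeneousIdeal.irrelevant (CohB1.polyGrading 1 R) ≤
    (HomogeneousIdeal.irrelevant (CohB1.polyGrading 1 R)).map (tr t) :=
  ProjClosedLib.irrelevant_le_map (tr t) fun p => ⟨tr (-t) p, by rw [tr_tr, neg_add_cancel, tr_zero]⟩

/-- The automorphism of a translation. -/
def trMor (t : R) : CohB1.ProjSpace 1 R ⟶ CohB1.ProjSpace 1 R := Proj.map (tr t) (irrelevant_tr t)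

theorem map_congr' {f g : CohB1.polyGrading 1 R →+*ᵍ CohB1.polyGrading 1 R'} (e : f = g)
    (hf : HomogeneousIdeal.irrelevant (CohB1.polyGrading 1 R') ≤
      (HomogeneousIdeal.irrelevant (CohB1.polyGrading 1 R)).map f)
    (hg : HomogeneousIdeal.irrelevant (CohB1.polyGrading 1 R') ≤
      (HomogeneousIdeal.irrelevant (CohB1.polyGrading 1 R)).map g) :
    Proj.map f hf = Proj.map g hg := by subst e; rfl

theorem trMor_toSpec (t : R) : trMor t ≫ CohB1.ProjSpace.toSpec 1 R = CohB1.ProjSpace.toSpec 1 R := by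
  let f := tr t
  haveI : IsIso (CommRingCat.ofHom (f : MvPolynomial (Fin 2) R →+* MvPolynomial (Fin 2) R)) :=
    (RingEquiv.ofBijective (f : MvPolynomial (Fin 2) R →+* MvPolynomial (Fin 2) R)
      (Function.bijective_iff_has_inverse.2 ⟨tr (-t),
        fun p => by show tr (-t) (tr t p) = p; rw [tr_tr, add_neg_cancel, tr_zero],
        fun p => by show tr t (tr (-t) p) = p; rw [tr_tr, neg_add_cancel, tr_zero]⟩)).toCommRingCatIso.isIso_hom
  haveI : IsIso (CommRingCat.ofHom (RingHom.id R)) := inferInstanceAs (IsIso (𝟙 (CommRingCat.of R)))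
  have H := MiscFlat6.isPullback_proj_baseChange (CohB1.polyGrading 1 R) (CohB1.polyGrading 1 R) f
    (algebraMap R (CohB1.polyGrading 1 R 0)) (algebraMap R (CohB1.polyGrading 1 R 0))
    (RingHom.id R) (irrelevant_tr t) (fun r => tr_C t r)
    (IsPushout.of_horiz_isIso ⟨CommRingCat.hom_ext (RingHom.ext fun r => (tr_C t r).symm)⟩)
  have hw := H.w
  rw [show Spec.map (CommRingCat.ofHom (RingHom.id R)) = 𝟙 _ from Spec.map_id _, Category.comp_id] at hw
  exact hw

/-- Translations commute with change of coefficients. -/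
theorem projG_trMor (ρ : R →+* R') (t : R) : projG ρ ≫ trMor t = trMor (ρ t) ≫ projG ρ := by
  rw [projG, trMor, trMor, ← Proj.map_comp, ← Proj.map_comp]
  refine map_congr' (DFunLike.ext _ _ fun p => ?_) _ _
  show mapG ρ (tr t p) = tr (ρ t) (mapG ρ p)
  induction p using MvPolynomial.induction_on with
  | C r =>
    rw [tr_C, show mapG ρ (C r) = C (ρ r) from MvPolynomial.map_C _ r, tr_C]
  | add p q hp hq => simp only [map_add, hp, hq]
  | mul_X p j hp =>
    simp only [map_mul, hp]
    congr 1
    have hX : ∀ i, mapG ρ (X i) = X i := fun i => MvPolynomial.map_X _ _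
    fin_cases j
    · show mapG ρ (tr t (X 0)) = tr (ρ t) (mapG ρ (X 0))
      rw [tr_X0, map_add, map_mul, hX, hX, tr_X0, show mapG ρ (C t) = C (ρ t) from MvPolynomial.map_C _ t]
    · show mapG ρ (tr t (X 1)) = tr (ρ t) (mapG ρ (X 1))
      rw [tr_X1, hX, tr_X1]

theorem projG_comp {R'' : Type u} [CommRing R''] (ρ : R →+* R') (σ : R' →+* R'') :
    projG σ ≫ projG ρ = projG (σ.comp ρ) := by
  rw [projG, projG, projG, ← Proj.map_comp]
  refine map_congr' (DFunLike.ext _ _ fun p => ?_) _ _
  exact MvPolynomial.map_map ρ σ p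

theorem projG_id : projG (RingHom.id R) = 𝟙 _ := by
  rw [projG]
  exact (map_congr' (g := .id _) (DFunLike.ext _ _ fun p => MvPolynomial.map_id p) _ (by simp)).trans Proj.map_id

theorem trMor_zero : trMor (0 : R) = 𝟙 _ := by
  rw [trMor]
  exact (map_congr' (g := .id _) (DFunLike.ext _ _ fun p => tr_zero p) _ (by simp)).trans Proj.map_id

theorem trMor_mem (t : R) (i : Fin 2) (y : CohB1.ProjSpace 1 R) :
    trMor t y ∈ QCohLib.stdOpen 1 R i ↔ y ∈ Proj.basicOpen (CohB1.polyGrading 1 R) (tr t (X i)) := Iff.rfl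

end Groth.Agent.P1Grp
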